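import Mathlib.RingTheory.MvPowerSeries.Inverse
import Mathlib.RingTheory.IntegralClosure.IsIntegralClosure.Basic
import Mathlib.Algebra.Polynomial.RingDivision
import Mathlib.RingTheory.Ideal.Quotient.Operations
import Mathlib.LinearAlgebra.Dimension.Finite
import Mathlib.LinearAlgebra.FreeModule.Finite.Basic

/-!
# The ideals `(xy, x^a, y^b)` of a power series ring in two variables
-/

set_option autoImplicit false

namespace Groth.Agent.NodeIdeal28

open MvPowerSeries

universe u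

variable {k : Type u} [Field k]

/-- The exponent `(i, 0)`. -/
noncomputable def ex (i : ℕ) : Fin 2 →₀ ℕ := Finsupp.single 0 i

/-- The exponent `(0, j)`. -/
noncomputable def ey (j : ℕ) : Fin 2 →₀ ℕ := Finsupp.single 1 j

theorem eq_ex {e : Fin 2 →₀ ℕ} (h : e 1 = 0) : e = ex (e 0) := by
  ext i; fin_cases i <;> simp [ex, h]

theorem eq_ey {e : Fin 2 →₀ ℕ} (h : e 0 = 0) : e = ey (e 1) := by
  ext i; fin_cases i <;> simp [ey, h]

theorem xy_dvd {f : MvPowerSeries (Fin 2) k} (h : ∀ e : Fin 2 →₀ ℕ, e 0 = 0 ∨ e 1 = 0 → coeff e f = 0) :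
    (X 0 * X 1 : MvPowerSeries (Fin 2) k) ∣ f := by
  obtain ⟨g, rfl⟩ := (X_dvd_iff (s := (0 : Fin 2))).2 fun e he => h e (Or.inl he)
  refine mul_dvd_mul_left _ ((X_dvd_iff (s := (1 : Fin 2))).2 fun e he => ?_)
  have := h (Finsupp.single 0 1 + e) (Or.inr (by simp [he]))
  rwa [X, coeff_add_monomial_mul, one_mul] at this

theorem coeff_X0_pow (a : ℕ) (e : Fin 2 →₀ ℕ) :
    coeff e ((X 0 : MvPowerSeries (Fin 2) k) ^ a) = if e = ex a then 1 else 0 := coeff_X_pow e 0 a

theorem coeff_X1_pow (b : ℕ) (e : Fin 2 →₀ ℕ) :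
    coeff e ((X 1 : MvPowerSeries (Fin 2) k) ^ b) = if e = ey b then 1 else 0 := coeff_X_pow e 1 b

/-- The ideal `(xy, x^a, y^b)`. -/
noncomputable def J0 (a b : ℕ) : Ideal (MvPowerSeries (Fin 2) k) :=
  Ideal.span {X 0 * X 1, X 0 ^ a, X 1 ^ b}

theorem mem_J0 {a b : ℕ} (f : MvPowerSeries (Fin 2) k) (hx : ∀ i < a, coeff (ex i) f = 0)
    (hy : ∀ j < b, coeff (ey j) f = 0) : f ∈ J0 a b := by
  classical
  let f2 : MvPowerSeries (Fin 2) k := fun e => if e 1 = 0 then coeff e f else 0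
  let f3 : MvPowerSeries (Fin 2) k := fun e => if e 0 = 0 ∧ e 1 ≠ 0 then coeff e f else 0
  have h2 : ∀ e, coeff e f2 = if e 1 = 0 then coeff e f else 0 := fun e => rfl
  have h3 : ∀ e, coeff e f3 = if e 0 = 0 ∧ e 1 ≠ 0 then coeff e f else 0 := fun e => rfl
  have e1 : (X 0 * X 1 : MvPowerSeries (Fin 2) k) ∣ f - f2 - f3 := xy_dvd fun e he => by
    simp only [map_sub, h2, h3]
    by_cases h : e 1 = 0
    · simp [h]
    · simp [h, he.resolve_right h]
  have e2 : (X 0 : MvPowerSeries (Fin 2) k) ^ a ∣ f2 := X_pow_dvd_iff.2 fun e he => by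
    rw [h2]
    split_ifs with h
    · rw [eq_ex h]; exact hx _ he
    · rfl
  have e3 : (X 1 : MvPowerSeries (Fin 2) k) ^ b ∣ f3 := X_pow_dvd_iff.2 fun e he => by
    rw [h3]
    split_ifs with h
    · rw [eq_ey h.1]; exact hy _ he
    · rfl
  have hm : ∀ g ∈ ({X 0 * X 1, X 0 ^ a, X 1 ^ b} : Set (MvPowerSeries (Fin 2) k)), ∀ q, g ∣ q → q ∈ J0 a b := by
    rintro g hg q ⟨r, rfl⟩
    exact Ideal.mul_mem_right _ _ (Ideal.subset_span hg)
  rw [show f = (f - f2 - f3) + f2 + f3 by ring]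
  exact add_mem (add_mem (hm _ (by simp) _ e1) (hm _ (by simp) _ e2)) (hm _ (by simp) _ e3)

theorem coeff_mem_J0 {a b : ℕ} {f : MvPowerSeries (Fin 2) k} (hf : f ∈ J0 a b) :
    (∀ i < a, i < b + i → coeff (ex i) f = 0) ∧ ∀ j < b, j < a + j → coeff (ey j) f = 0 := by
  rw [J0, Ideal.mem_span_insert] at hf
  obtain ⟨p, z, hz, rfl⟩ := hf
  obtain ⟨q, r, rfl⟩ := Ideal.mem_span_pair.1 hz
  have hxy : ∀ e : Fin 2 →₀ ℕ, e 0 = 0 ∨ e 1 = 0 → coeff e (p * (X 0 * X 1)) = 0 := fun e he => by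
    rcases he with he | he
    · exact X_dvd_iff.1 (Dvd.intro (p * X 1) (by ring)) e he
    · exact X_dvd_iff.1 (Dvd.intro (p * X 0) (by ring)) e he
  refine ⟨fun i hi hb => ?_, fun j hj ha => ?_⟩
  · rw [map_add, map_add, hxy _ (Or.inr (by simp [ex])), X_pow_dvd_iff.1 (dvd_mul_left _ q) _ (by simpa [ex] using hi),
      X_pow_dvd_iff.1 (dvd_mul_left _ r) _ (by simp [ex]; omega), add_zero, add_zero]
  · rw [map_add, map_add, hxy _ (Or.inl (by simp [ey])), X_pow_dvd_iff.1 (dvd_mul_left _ q) _ (by simp [ey]; omega),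
      X_pow_dvd_iff.1 (dvd_mul_left _ r) _ (by simpa [ey] using hj), add_zero, add_zero]

/-- The coefficient map of `P/J0`. -/
noncomputable def phi (a b : ℕ) : MvPowerSeries (Fin 2) k →ₗ[k] (Fin a → k) × (Fin (b - 1) → k) :=
  (LinearMap.pi fun i : Fin a => coeff (R := k) (ex i)).prod
    (LinearMap.pi fun j : Fin (b - 1) => coeff (R := k) (ey (j + 1)))

theorem ker_phi {a b : ℕ} (ha : 1 ≤ a) (hb : 1 ≤ b) :
    LinearMap.ker (phi (k := k) a b) = (J0 a b).restrictScalars k := by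
  ext f
  simp only [LinearMap.mem_ker, phi, LinearMap.prod_apply, Function.prod_apply, Prod.mk_eq_zero,
    Submodule.restrictScalars_mem]
  constructor
  · rintro ⟨h1, h2⟩
    refine mem_J0 f (fun i hi => congrFun h1 ⟨i, hi⟩) fun j hj => ?_
    rcases j with _ | j
    · rw [show ey 0 = ex 0 by simp [ex, ey]]; exact congrFun h1 ⟨0, ha⟩
    · exact congrFun h2 ⟨j, by omega⟩
  · intro hf
    obtain ⟨h1, h2⟩ := coeff_mem_J0 hf
    exact ⟨funext fun i => h1 i i.2 (by omega), funext fun j => h2 _ (by omega) (by omega)⟩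

theorem phi_surjective (a b : ℕ) : Function.Surjective (phi (k := k) a b) := by
  classical
  rintro ⟨c, d⟩
  refine ⟨(fun e => if e 1 = 0 then (if h : e 0 < a then c ⟨e 0, h⟩ else 0)
    else (if h : e 0 = 0 ∧ e 1 - 1 < b - 1 then d ⟨e 1 - 1, h.2⟩ else 0)), ?_⟩
  refine Prod.ext (funext fun i => ?_) (funext fun j => ?_)
  · show (if ex i 1 = 0 then _ else _) = c i
    simp [ex]
  · show (if ey (j + 1) 1 = 0 then _ else _) = d j
    simp [ey]

theorem finrank_quot_of_ker {P : Type*} [CommRing P] [Algebra k P] (I : Ideal P) {V : Type*} [AddCommGroup V]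
    [Module k V] (φ : P →ₗ[k] V) (hker : LinearMap.ker φ = I.restrictScalars k) (hs : Function.Surjective φ) :
    Module.finrank k (P ⧸ I) = Module.finrank k V :=
  ((Submodule.Quotient.restrictScalarsEquiv k I).symm.trans
    ((Submodule.quotEquivOfEq _ _ hker.symm).trans (φ.quotKerEquivOfSurjective hs))).finrank_eq

theorem finrank_quot_J0 {a b : ℕ} (ha : 1 ≤ a) (hb : 1 ≤ b) :
    Module.finrank k (MvPowerSeries (Fin 2) k ⧸ J0 (k := k) a b) = a + (b - 1) := by
  rw [finrank_quot_of_ker (J0 (k := k) a b) (phi a b) (ker_phi ha hb) (phi_surjective a b),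
    Module.finrank_prod, Module.finrank_fin_fun, Module.finrank_fin_fun]

section classify

variable {J : Ideal (MvPowerSeries (Fin 2) k)}

theorem isUnit_of_const {f : MvPowerSeries (Fin 2) k} (h : constantCoeff f ≠ 0) : IsUnit f :=
  isUnit_iff_constantCoeff.2 (isUnit_iff_ne_zero.2 h)

theorem exists_pow_mem [Module.Finite k (MvPowerSeries (Fin 2) k ⧸ J)] {z : MvPowerSeries (Fin 2) k}
    (hz : constantCoeff z = 0) : ∃ N, z ^ N ∈ J := by
  obtain ⟨q, hqm, hq⟩ := Algebra.IsIntegral.isIntegral (R := k) (Ideal.Quotient.mk J z)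
  obtain ⟨r, hr, hrX⟩ := Polynomial.exists_eq_pow_rootMultiplicity_mul_and_not_dvd q hqm.ne_zero 0
  refine ⟨q.rootMultiplicity 0, ?_⟩
  have h1 : Polynomial.aeval z q ∈ J := by
    rw [← Ideal.Quotient.eq_zero_iff_mem, ← Ideal.Quotient.mkₐ_eq_mk k, ← Polynomial.aeval_algHom_apply]
    exact hq
  rw [hr, map_mul, map_pow, map_sub, Polynomial.aeval_X, Polynomial.C_0, map_zero, sub_zero] at h1
  refine (Ideal.mul_unit_mem_iff_mem J (isUnit_of_const ?_)).1 h1
  rw [Polynomial.C_0, sub_zero, Polynomial.X_dvd_iff] at hrX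
  rw [Polynomial.aeval_def, Polynomial.hom_eval₂, hz, Polynomial.eval₂_at_zero]
  simpa [MvPowerSeries.algebraMap_apply] using hrX

/-- Below the exponent of `x` in `J` the coefficients vanish. -/
theorem coeff_eq_zero_of_mem (hxy : (X 0 * X 1 : MvPowerSeries (Fin 2) k) ∈ J) (s t : Fin 2) (hst : s ≠ t)
    {a : ℕ} (hmin : ∀ i < a, (X s : MvPowerSeries (Fin 2) k) ^ i ∉ J) {f : MvPowerSeries (Fin 2) k} (hf : f ∈ J)
    (i : ℕ) (hi : i + 1 < a) : coeff (Finsupp.single s i) f = 0 := by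
  classical
  induction i using Nat.strong_induction_on with
  | _ i ih =>
    by_contra hne
    let f2 : MvPowerSeries (Fin 2) k := fun e => if e t = 0 then coeff e f else 0
    have h2 : ∀ e, coeff e f2 = if e t = 0 then coeff e f else 0 := fun e => rfl
    have hone : ∀ e : Fin 2 →₀ ℕ, e t = 0 → e = Finsupp.single s (e s) := fun e he => by
      ext j
      rcases eq_or_ne j s with rfl | hj
      · simp
      · obtain rfl : j = t := by omega
        simp [he, hst]
    obtain ⟨w, hw⟩ := (X_dvd_iff (s := t) (φ := f - f2)).2 fun e he => by rw [map_sub, h2, if_pos he, sub_self]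
    have hmem : X s * f2 ∈ J := by
      have : X s * (f - f2) ∈ J := by
        rw [hw, ← mul_assoc]
        refine Ideal.mul_mem_right _ _ ?_
        fin_cases s <;> fin_cases t <;> first | exact absurd rfl hst | exact hxy | (rw [mul_comm]; exact hxy)
      have h' := sub_mem (Ideal.mul_mem_left J (X s) hf) this
      rwa [mul_sub, sub_sub_cancel] at h'
    obtain ⟨u, hu⟩ := (X_pow_dvd_iff (s := s) (n := i) (φ := f2)).2 fun e he => by
      rw [h2]
      split_ifs with h
      · rw [hone e h]; exact ih _ he (by omega)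
      · rfl
    have hu0 : constantCoeff u ≠ 0 := by
      intro h0
      apply hne
      have h3 := congrArg (coeff (Finsupp.single s i + 0)) hu
      rw [X_pow_eq, coeff_add_monomial_mul, one_mul, coeff_zero_eq_constantCoeff_apply, h0, add_zero, h2,
        if_pos (Finsupp.single_eq_of_ne hst.symm)] at h3
      exact h3
    rw [hu, ← mul_assoc, ← pow_succ'] at hmem
    exact hmin (i + 1) hi ((Ideal.mul_unit_mem_iff_mem J (isUnit_of_const hu0)).1 hmem)

end classify

end Groth.Agent.NodeIdeal28
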